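import Mathlib.CategoryTheory.ConnectedComponents
import Mathlib.CategoryTheory.Filtered.Basic
import Mathlib.Data.Fintype.Option

/-!
# Categories in which spans can be completed to squares and parallel pairs can be coequalized
-/

set_option autoImplicit false

open CategoryTheory

universe v u w

namespace K302.AlmostFiltered

variable {I : Type u} [Category.{v} I]

/-- Objects connected by a zigzag have a common upper bound if spans can be completed. -/
theorem exists_common_of_zigzag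
    (h1 : ∀ ⦃w x y : I⦄ (a : w ⟶ x) (b : w ⟶ y), ∃ (z : I) (c : x ⟶ z) (d : y ⟶ z), a ≫ c = b ≫ d)
    {x y : I} (h : Zigzag x y) : ∃ (z : I) (_ : x ⟶ z) (_ : y ⟶ z), True := by
  induction h with
  | refl => exact ⟨x, 𝟙 _, 𝟙 _, trivial⟩
  | tail _ h ih =>
    obtain ⟨z, a, b, -⟩ := ih
    rcases h with ⟨⟨f⟩⟩ | ⟨⟨f⟩⟩
    · obtain ⟨w, c, d, -⟩ := h1 b f
      exact ⟨w, a ≫ c, d, trivial⟩
    · exact ⟨z, a, f ≫ b, trivial⟩

theorem isFiltered_component
    (h1 : ∀ ⦃w x y : I⦄ (a : w ⟶ x) (b : w ⟶ y), ∃ (z : I) (c : x ⟶ z) (d : y ⟶ z), a ≫ c = b ≫ d)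
    (h2 : ∀ ⦃x y : I⦄ (a b : x ⟶ y), ∃ (z : I) (c : y ⟶ z), a ≫ c = b ≫ c)
    (j : ConnectedComponents I) : IsFiltered j.Component := by
  have hmem : ∀ {x z : I} (_ : x ⟶ z), ConnectedComponents.mk x = j → ConnectedComponents.mk z = j := by
    intro x z f hx
    rw [← hx]
    exact Quotient.sound' (Zigzag.of_inv f)
  have : IsFilteredOrEmpty j.Component :=
    { cocone_objs := by
        rintro ⟨x, hx⟩ ⟨y, hy⟩
        have hxy : Zigzag x y := Quotient.exact' (hx.trans hy.symm)
        obtain ⟨z, a, b, -⟩ := exists_common_of_zigzag h1 hxy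
        exact ⟨⟨z, hmem a hx⟩, ObjectProperty.homMk a, ObjectProperty.homMk b, trivial⟩
      cocone_maps := by
        rintro ⟨x, hx⟩ ⟨y, hy⟩ f g
        obtain ⟨z, c, hc⟩ := h2 f.hom g.hom
        refine ⟨⟨z, hmem c hy⟩, ObjectProperty.homMk c, ?_⟩
        apply ObjectProperty.hom_ext
        exact hc }
  exact { }

/-- A finite family of arrows out of a common object can be completed to commutative squares. -/
theorem exists_finite_span {ι : Type w} [Finite ι]
    (h1 : ∀ ⦃w x y : I⦄ (a : w ⟶ x) (b : w ⟶ y), ∃ (z : I) (c : x ⟶ z) (d : y ⟶ z), a ≫ c = b ≫ d)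
    (k : I) : ∀ (l : ι → I) (f : ∀ i, k ⟶ l i), ∃ (z : I) (a : k ⟶ z) (g : ∀ i, l i ⟶ z), ∀ i, f i ≫ g i = a := by
  induction ι using Finite.induction_empty_option with
  | of_equiv e ih =>
    intro l f
    obtain ⟨z, a, g, hg⟩ := ih (fun i => l (e i)) (fun i => f (e i))
    have : ∀ i, ∃ (g : l i ⟶ z), f i ≫ g = a := by
      intro i
      obtain ⟨i, rfl⟩ := e.surjective i
      exact ⟨g i, hg i⟩
    choose g' hg' using this
    exact ⟨z, a, g', hg'⟩
  | h_empty =>
    intro l f
    exact ⟨k, 𝟙 k, fun i => i.elim, fun i => i.elim⟩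
  | h_option ih =>
    intro l f
    obtain ⟨z, a, g, hg⟩ := ih (fun i => l (some i)) (fun i => f (some i))
    obtain ⟨z', c, d, hcd⟩ := h1 a (f none)
    refine ⟨z', a ≫ c, fun i => match i with
      | none => d
      | some i => g i ≫ c, ?_⟩
    rintro (_ | i)
    · exact hcd.symm
    · simp only [← Category.assoc, hg]

end K302.AlmostFiltered
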