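import Mathlib.CategoryTheory.Limits.Types.Colimits
import Mathlib.CategoryTheory.Limits.FunctorCategory.Basic

/-!
# Colimits of sets over categories in which spans can be completed to squares
-/

set_option autoImplicit false

open CategoryTheory CategoryTheory.Limits

universe v

namespace K302.SpanColim

variable {I : Type v} [SmallCategory I]

/-- In a colimit of sets over a category in which spans can be completed to squares, two elements are
identified iff they become equal at a later stage. -/
theorem colimit_eq_iff
    (hI : ∀ ⦃x y z : I⦄ (f : x ⟶ y) (g : x ⟶ z), ∃ (w : I) (f' : y ⟶ w) (g' : z ⟶ w), f ≫ f' = g ≫ g')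
    (N : I ⥤ Type v) {i j : I} (x : N.obj i) (y : N.obj j) :
    colimit.ι N i x = colimit.ι N j y ↔ ∃ (k : I) (f : i ⟶ k) (g : j ⟶ k), N.map f x = N.map g y := by
  constructor
  · intro h
    have h1 := Types.colimit_eq h
    have key : ∀ p q : (Σ j, N.obj j), Relation.EqvGen N.ColimitTypeRel p q →
        ∃ (k : I) (f : p.1 ⟶ k) (g : q.1 ⟶ k), N.map f p.2 = N.map g q.2 := by
      intro p q hpq
      induction hpq with
      | rel p q h =>
        obtain ⟨f, hf⟩ := h
        exact ⟨q.1, f, 𝟙 _, by rw [hf]; simp⟩
      | refl p => exact ⟨p.1, 𝟙 _, 𝟙 _, rfl⟩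
      | symm p q _ ih =>
        obtain ⟨k, f, g, h⟩ := ih
        exact ⟨k, g, f, h.symm⟩
      | trans p q r _ _ ih1 ih2 =>
        obtain ⟨k, f, g, h⟩ := ih1
        obtain ⟨k', f', g', h'⟩ := ih2
        obtain ⟨l, a, b, hab⟩ := hI g f'
        refine ⟨l, f ≫ a, g' ≫ b, ?_⟩
        rw [Functor.map_comp, Functor.map_comp]
        simp only [types_comp_apply]
        rw [h, ← h']
        have := ConcreteCategory.congr_hom (congrArg N.map hab) q.2
        simpa using this
    exact key _ _ h1
  · rintro ⟨k, f, g, h⟩
    exact Types.colimit_sound' f g h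

end K302.SpanColim
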