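import Groth.Agent.CatLim.K302.AlmostFiltered
import Groth.Agent.CatLim.K302.SpanColim
import Mathlib.CategoryTheory.Limits.Types.Limits
import Mathlib.CategoryTheory.Limits.Preserves.Basic
import Mathlib.CategoryTheory.Limits.FunctorCategory.Basic
import Mathlib.CategoryTheory.FinCategory.Basic
import Mathlib.CategoryTheory.IsConnected
import Mathlib.Data.Finite.Sigma
import Mathlib.Data.Fintype.Sigma

/-!
# Colimits of sets over disjoint unions of filtered categories commute with finite connected limits
-/

set_option autoImplicit false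

open CategoryTheory CategoryTheory.Limits

universe v u w

namespace K302.AlmostFilteredColim

open AlmostFiltered SpanColim

variable {I : Type v} [SmallCategory I]

theorem colim_map_ι {M N : I ⥤ Type v} (φ : M ⟶ N) (i : I) (m : M.obj i) :
    (colim.map φ : (colim : (I ⥤ Type v) ⥤ Type v).obj M ⟶ (colim : (I ⥤ Type v) ⥤ Type v).obj N)
      (colimit.ι M i m) = colimit.ι N i (φ.app i m) :=
  ConcreteCategory.congr_hom (ι_colimMap φ i) m

variable (h1 : ∀ ⦃w x y : I⦄ (a : w ⟶ x) (b : w ⟶ y), ∃ (z : I) (c : x ⟶ z) (d : y ⟶ z), a ≫ c = b ≫ d)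
  (h2 : ∀ ⦃x y : I⦄ (a b : x ⟶ y), ∃ (z : I) (c : y ⟶ z), a ≫ c = b ≫ c)

include h1 h2 in
/-- Two elements at the same stage which agree in the colimit agree at a later stage, via a common arrow. -/
theorem exists_eq {N : I ⥤ Type v} {k : I} {x y : N.obj k} (h : colimit.ι N k x = colimit.ι N k y) :
    ∃ (l : I) (f : k ⟶ l), N.map f x = N.map f y := by
  rw [colimit_eq_iff h1] at h
  obtain ⟨l, f, g, hfg⟩ := h
  obtain ⟨z, c, hc⟩ := h2 f g
  refine ⟨z, f ≫ c, ?_⟩
  have e1 : N.map (f ≫ c) x = N.map c (N.map f x) := by simp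
  have e2 : N.map (g ≫ c) y = N.map c (N.map g y) := by simp
  rw [e1, hfg, ← e2, hc]

include h1 h2 in
theorem exists_eq_finite {ι : Type w} [Finite ι] {N : ι → (I ⥤ Type v)} {k : I} {x y : ∀ t, (N t).obj k}
    (h : ∀ t, colimit.ι (N t) k (x t) = colimit.ι (N t) k (y t)) :
    ∃ (l : I) (f : k ⟶ l), ∀ t, (N t).map f (x t) = (N t).map f (y t) := by
  choose l f hf using fun t => exists_eq h1 h2 (h t)
  obtain ⟨z, a, g, hg⟩ := exists_finite_span h1 k l f
  refine ⟨z, a, fun t => ?_⟩
  rw [← hg t]
  simp only [Functor.map_comp, types_comp_apply]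
  rw [hf t]

include h1 h2 in
theorem main (J : Type) [SmallCategory J] [FinCategory J] [IsConnected J] :
    PreservesLimitsOfShape J (colim : (I ⥤ Type v) ⥤ Type v) := by
  refine ⟨fun {F} => ⟨fun {c} hc => ?_⟩⟩
  have hev : ∀ k : I, IsLimit (((evaluation I (Type v)).obj k).mapCone c) := fun k =>
    isLimitOfPreserves ((evaluation I (Type v)).obj k) hc
  rw [Types.isLimit_iff]
  have hfin : Finite (Σ i j : J, (i ⟶ j)) := inferInstance
  intro s hs
  let j₀ : J := Classical.arbitrary J
  -- transition formula
  have htr : ∀ {j j' : J} (a : j ⟶ j') (i : I) (m : (F.obj j).obj i),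
      (F ⋙ (colim : (I ⥤ Type v) ⥤ Type v)).map a (colimit.ι (F.obj j) i m) =
        colimit.ι (F.obj j') i ((F.map a).app i m) := fun a i m => colim_map_ι (F.map a) i m
  refine existsUnique_of_exists_of_unique ?_ ?_
  · choose i x hx using fun j => Types.jointly_surjective' (F := F.obj j) (s j)
    -- all the `i j` are bounded by a common object, starting from `i j₀`
    have hz : ∀ j, Zigzag (i j₀) (i j) := by
      intro j
      have := isPreconnected_zigzag (J := J) j₀ j
      induction this with
      | refl => exact Zigzag.refl _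
      | @tail j j' _ h ih =>
        refine ih.trans ?_
        have key : ∀ {a b : J} (f : a ⟶ b), Zigzag (i a) (i b) := by
          intro a b f
          have e1 := hs f
          rw [← hx a, ← hx b, htr] at e1
          rw [colimit_eq_iff h1] at e1
          obtain ⟨k, p, q, -⟩ := e1
          exact (Zigzag.of_hom p).trans (Zigzag.of_inv q)
        rcases h with ⟨⟨f⟩⟩ | ⟨⟨f⟩⟩
        · exact key f
        · exact (key f).symm
    choose l a b hab using fun j => exists_common_of_zigzag h1 (hz j)
    obtain ⟨k, a', g, hg⟩ := exists_finite_span h1 (i j₀) l a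
    -- move everything to `k`
    let x' : ∀ j, (F.obj j).obj k := fun j => (F.obj j).map (b j ≫ g j) (x j)
    have hx' : ∀ j, colimit.ι (F.obj j) k (x' j) = s j := by
      intro j
      rw [← hx j]
      exact colimit.w_apply (F.obj j) (b j ≫ g j) (x j)
    obtain ⟨m, f, hf⟩ := exists_eq_finite h1 h2 (ι := Σ i j : J, (i ⟶ j)) (N := fun t => F.obj t.2.1) (k := k)
      (x := fun t => (F.map t.2.2).app k (x' t.1)) (y := fun t => x' t.2.1) (by
        rintro ⟨j, j', a⟩
        have e1 := hs a
        rw [← hx' j, ← hx' j', htr] at e1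
        exact e1)
    let x'' : ∀ j, (F.obj j).obj m := fun j => (F.obj j).map f (x' j)
    have hx'' : x'' ∈ (F ⋙ (evaluation I (Type v)).obj m).sections := by
      intro j j' a
      have e1 := hf ⟨j, j', a⟩
      have e2 := ConcreteCategory.congr_hom ((F.map a).naturality f) (x' j)
      simp only [types_comp_apply] at e2
      change (F.map a).app m ((F.obj j).map f (x' j)) = (F.obj j').map f (x' j')
      rw [e2]
      exact e1
    obtain ⟨y, hy, -⟩ := (Types.isLimit_iff _).mp ⟨hev m⟩ x'' hx''
    refine ⟨colimit.ι c.pt m y, fun j => ?_⟩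
    refine (colim_map_ι (c.π.app j) m y).trans ?_
    have e1 : (c.π.app j).app m y = x'' j := hy j
    rw [e1, ← hx' j]
    exact colimit.w_apply (F.obj j) f (x' j)
  · intro y y' hy hy'
    obtain ⟨i, u, rfl⟩ := Types.jointly_surjective' (F := c.pt) y
    obtain ⟨i', u', rfl⟩ := Types.jointly_surjective' (F := c.pt) y'
    have hyy : ∀ j, colimit.ι (F.obj j) i ((c.π.app j).app i u) = colimit.ι (F.obj j) i' ((c.π.app j).app i' u') := by
      intro j
      rw [← colim_map_ι, ← colim_map_ι]
      exact (hy j).trans (hy' j).symm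
    obtain ⟨k, p, q, -⟩ := (colimit_eq_iff h1 _ _ _).mp (hyy j₀)
    have hyy' : ∀ j, colimit.ι (F.obj j) k ((c.π.app j).app k (c.pt.map p u)) =
        colimit.ι (F.obj j) k ((c.π.app j).app k (c.pt.map q u')) := by
      intro j
      have e1 := ConcreteCategory.congr_hom ((c.π.app j).naturality p) u
      have e2 := ConcreteCategory.congr_hom ((c.π.app j).naturality q) u'
      simp only [types_comp_apply] at e1 e2
      have e3 : colimit.ι (F.obj j) k ((F.obj j).map p ((c.π.app j).app i u)) = colimit.ι (F.obj j) i ((c.π.app j).app i u) :=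
        colimit.w_apply (F.obj j) p _
      have e4 : colimit.ι (F.obj j) k ((F.obj j).map q ((c.π.app j).app i' u')) = colimit.ι (F.obj j) i' ((c.π.app j).app i' u') :=
        colimit.w_apply (F.obj j) q _
      refine (congrArg _ e1).trans (Eq.trans ?_ (congrArg _ e2).symm)
      exact e3.trans ((hyy j).trans e4.symm)
    obtain ⟨l, f, hf⟩ := exists_eq_finite h1 h2 (ι := J) (N := fun j => F.obj j) (k := k)
      (x := fun j => (c.π.app j).app k (c.pt.map p u)) (y := fun j => (c.π.app j).app k (c.pt.map q u')) hyy'
    have e5 : c.pt.map f (c.pt.map p u) = c.pt.map f (c.pt.map q u') := by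
      have inj : ∀ a b : c.pt.obj l, (∀ j, (c.π.app j).app l a = (c.π.app j).app l b) → a = b := by
        intro a b h
        apply (Types.isLimitEquivSections (hev l)).injective
        exact Subtype.ext (funext fun j => h j)
      apply inj
      intro j
      have e1 := ConcreteCategory.congr_hom ((c.π.app j).naturality f) (c.pt.map p u)
      have e2 := ConcreteCategory.congr_hom ((c.π.app j).naturality f) (c.pt.map q u')
      simp only [types_comp_apply] at e1 e2
      exact e1.trans ((hf j).trans e2.symm)
    have e6 : colimit.ι c.pt i u = colimit.ι c.pt l (c.pt.map f (c.pt.map p u)) := by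
      rw [colimit.w_apply, colimit.w_apply]
    have e7 : colimit.ι c.pt i' u' = colimit.ι c.pt l (c.pt.map f (c.pt.map q u')) := by
      rw [colimit.w_apply, colimit.w_apply]
    rw [e6, e7, e5]

end K302.AlmostFilteredColim
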