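import Mathlib.CategoryTheory.Limits.Final
import Mathlib.CategoryTheory.Limits.IsConnected
import Mathlib.CategoryTheory.FinCategory.Basic
import Mathlib.CategoryTheory.MorphismProperty.Composition
import Mathlib.Data.Finite.Sigma
import Mathlib.Data.Finite.Sum

/-!
# A finite category with a final and initial functor to a finitely generated category
-/

set_option autoImplicit false

open CategoryTheory

universe v u

namespace K302.Bipartite

/-- Morphisms of the bipartite category: identities and edges from the left part to the right part. -/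
inductive Hom {N : Type} (E : N → N → Type) : N ⊕ N → N ⊕ N → Type
  | id (x : N ⊕ N) : Hom E x x
  | edge {a b : N} (e : E a b) : Hom E (Sum.inl a) (Sum.inr b)

/-- Composition. -/
def Hom.comp {N : Type} {E : N → N → Type} : ∀ {x y z : N ⊕ N}, Hom E x y → Hom E y z → Hom E x z
  | _, _, _, .id _, g => g
  | _, _, _, .edge e, .id _ => .edge e

/-- Objects of the bipartite category. -/
structure Obj {N : Type} (E : N → N → Type) where
  /-- the underlying object -/
  of : N ⊕ N

instance {N : Type} (E : N → N → Type) : SmallCategory (Obj E) where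
  Hom x y := Hom E x.of y.of
  id x := Hom.id x.of
  comp f g := f.comp g
  id_comp f := rfl
  comp_id {x y} f := by
    obtain ⟨x⟩ := x
    obtain ⟨y⟩ := y
    cases f <;> rfl
  assoc {x y z w} f g h := by
    obtain ⟨x⟩ := x
    obtain ⟨y⟩ := y
    obtain ⟨z⟩ := z
    obtain ⟨w⟩ := w
    cases f
    · rfl
    · cases g
      cases h
      rfl

variable {N : Type} {E : N → N → Type}

/-- left objects -/
abbrev y (E : N → N → Type) (i : N) : Obj E := ⟨Sum.inl i⟩

/-- right objects -/
abbrev z (E : N → N → Type) (i : N) : Obj E := ⟨Sum.inr i⟩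

/-- edges -/
def mkEdge {i j : N} (e : E i j) : y E i ⟶ z E j := Hom.edge e

instance [Finite N] [∀ i j, Finite (E i j)] (a b : Obj E) : Finite (a ⟶ b) := by
  let T := Option (Σ i j : N, E i j)
  let f : ∀ {a b : N ⊕ N}, Hom E a b → T := fun {a b} g => match g with
    | .id _ => none
    | .edge e => some ⟨_, _, e⟩
  refine Finite.of_injective (fun g : (a ⟶ b) => f (show Hom E a.of b.of from g)) ?_
  obtain ⟨a⟩ := a
  obtain ⟨b⟩ := b
  intro g g' h
  change Hom E a b at g g'
  cases g with
  | id =>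
    cases g' with
    | id => rfl
  | edge e =>
    cases g' with
    | edge e' =>
      have : (⟨_, _, e⟩ : Σ i j : N, E i j) = ⟨_, _, e'⟩ := Option.some.inj h
      simp only [Sigma.mk.injEq, heq_eq_eq, true_and] at this
      rw [this]

instance [Finite N] : Finite (Obj E) :=
  Finite.of_injective (fun a : Obj E => a.of) (fun a b h => by
    obtain ⟨a⟩ := a
    obtain ⟨b⟩ := b
    congr)

@[instance_reducible]
noncomputable def finCategory [Finite N] [∀ i j, Finite (E i j)] : FinCategory (Obj E) where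
  fintypeObj := Fintype.ofFinite _
  fintypeHom _ _ := Fintype.ofFinite _

variable {I : Type u} [Category.{v} I]

/-- Objects part. -/
def objF (ε : N → I) : N ⊕ N → I
  | Sum.inl i => ε i
  | Sum.inr i => ε i

/-- Morphisms part. -/
def mapF (ε : N → I) (m : ∀ {i j : N}, E i j → (ε i ⟶ ε j)) : ∀ {a b : N ⊕ N}, Hom E a b → (objF ε a ⟶ objF ε b)
  | _, _, .id _ => 𝟙 _
  | _, _, .edge e => m e

/-- The functor from the bipartite category. -/
def functor (ε : N → I) (m : ∀ {i j : N}, E i j → (ε i ⟶ ε j)) : Obj E ⥤ I where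
  obj a := objF ε a.of
  map {a b} g := mapF ε m (show Hom E a.of b.of from g)
  map_id a := rfl
  map_comp {a b c} f g := by
    obtain ⟨a⟩ := a
    obtain ⟨b⟩ := b
    obtain ⟨c⟩ := c
    change Hom E a b at f
    change Hom E b c at g
    cases f with
    | id => exact (Category.id_comp _).symm
    | edge e =>
      cases g with
      | id => exact (Category.comp_id _).symm

theorem functor_map_edge (ε : N → I) (m : ∀ {i j : N}, E i j → (ε i ⟶ ε j)) {i j : N} (e : E i j) :
    (functor ε m).map (mkEdge e) = m e := rfl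

section Final

variable (ε : N → I) (hε : Function.Bijective ε) (m : ∀ {i j : N}, E i j → (ε i ⟶ ε j))
  (hid : ∀ i, ∃ e : E i i, m e = 𝟙 _)
  (hgen : ∀ P : MorphismProperty I, P.IsMultiplicative → (∀ i j (e : E i j), P (m e)) → P = ⊤)

include hε hgen in
/-- Induction on morphisms generated by the edges. -/
theorem induct (P' : ∀ i j : N, (ε i ⟶ ε j) → Prop) (h1 : ∀ i, P' i i (𝟙 _))
    (h2 : ∀ i j k (f : ε i ⟶ ε j) (g : ε j ⟶ ε k), P' i j f → P' j k g → P' i k (f ≫ g))
    (h3 : ∀ i j (e : E i j), P' i j (m e)) (i j : N) (f : ε i ⟶ ε j) : P' i j f := by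
  let P : MorphismProperty I := fun x y f => ∀ i j (hi : ε i = x) (hj : ε j = y),
    P' i j (eqToHom hi ≫ f ≫ eqToHom hj.symm)
  have hP : P = ⊤ := by
    refine hgen P ?_ ?_
    · refine { id_mem := ?_, comp_mem := ?_ }
      · intro x i j hi hj
        obtain rfl := hε.1 (hi.trans hj.symm)
        subst hi
        simpa using h1 i
      · intro x y z f g hf hg i k hi hk
        obtain ⟨j, hj⟩ := hε.2 y
        have := h2 i j k _ _ (hf i j hi hj) (hg j k hj hk)
        simpa using this
    · intro i j e i' j' hi hj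
      obtain rfl := hε.1 hi
      obtain rfl := hε.1 hj
      simpa using h3 i' j' e
  have h4 : P f := by rw [hP]; trivial
  simpa using h4 i j rfl rfl

/-- structured arrows over left objects -/
def sy {d : I} (i : N) (φ : d ⟶ ε i) : StructuredArrow d (functor (E := E) ε m) :=
  StructuredArrow.mk (S := d) (T := functor (E := E) ε m) (Y := y E i) φ

/-- structured arrows over right objects -/
def sz {d : I} (i : N) (φ : d ⟶ ε i) : StructuredArrow d (functor (E := E) ε m) :=
  StructuredArrow.mk (S := d) (T := functor (E := E) ε m) (Y := z E i) φ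

/-- costructured arrows over left objects -/
def cy {d : I} (i : N) (φ : ε i ⟶ d) : CostructuredArrow (functor (E := E) ε m) d :=
  CostructuredArrow.mk (S := functor (E := E) ε m) (T := d) (Y := y E i) φ

/-- costructured arrows over right objects -/
def cz {d : I} (i : N) (φ : ε i ⟶ d) : CostructuredArrow (functor (E := E) ε m) d :=
  CostructuredArrow.mk (S := functor (E := E) ε m) (T := d) (Y := z E i) φ

theorem zig_s {d : I} {i j : N} (e : E i j) (φ : d ⟶ ε i) : Zigzag (sy ε m i φ) (sz ε m j (φ ≫ m e)) :=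
  Zigzag.of_hom (StructuredArrow.homMk (mkEdge e) rfl)

theorem zig_c {d : I} {i j : N} (e : E i j) (φ : ε j ⟶ d) : Zigzag (cy ε m i (m e ≫ φ)) (cz ε m j φ) :=
  Zigzag.of_hom (CostructuredArrow.homMk (mkEdge e) rfl)

include hε hgen hid in
theorem final : (functor (E := E) ε m).Final := by
  refine ⟨fun d => ?_⟩
  obtain ⟨i₀, rfl⟩ := hε.2 d
  have hne : Nonempty (StructuredArrow (ε i₀) (functor (E := E) ε m)) := ⟨sy ε m i₀ (𝟙 _)⟩
  -- from `y i` to `z i`
  have hyz : ∀ i (φ : ε i₀ ⟶ ε i), Zigzag (sy ε m i φ) (sz ε m i φ) := by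
    intro i φ
    obtain ⟨e, he⟩ := hid i
    have := zig_s ε m e φ
    rwa [he, Category.comp_id] at this
  have key : ∀ i j (f : ε i ⟶ ε j) (φ : ε i₀ ⟶ ε i), Zigzag (sy ε m i φ) (sy ε m j (φ ≫ f)) := by
    refine induct ε hε m hgen (fun i j f => ∀ φ : ε i₀ ⟶ ε i,
      Zigzag (sy ε m i φ) (sy ε m j (φ ≫ f))) ?_ ?_ ?_
    · intro i φ
      rw [Category.comp_id]
    · intro i j k f g hf hg φ
      rw [← Category.assoc]
      exact (hf φ).trans (hg _)
    · intro i j e φ
      exact (zig_s ε m e φ).trans (hyz j (φ ≫ m e)).symm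
  have key' : ∀ i (φ : ε i₀ ⟶ ε i), Zigzag (sy ε m i₀ (𝟙 _)) (sy ε m i φ) := by
    intro i φ
    have := key i₀ i φ (𝟙 _)
    rwa [Category.id_comp] at this
  have hbase : ∀ a : StructuredArrow (ε i₀) (functor (E := E) ε m), Zigzag (sy ε m i₀ (𝟙 _)) a := by
    rintro ⟨⟨⟩, ⟨(i | i)⟩, φ⟩
    · exact key' i φ
    · exact (key' i φ).trans (hyz i φ)
  exact zigzag_isConnected fun a b => (hbase a).symm.trans (hbase b)

include hε hgen hid in
theorem initial : (functor (E := E) ε m).Initial := by
  refine ⟨fun d => ?_⟩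
  obtain ⟨i₀, rfl⟩ := hε.2 d
  have hne : Nonempty (CostructuredArrow (functor (E := E) ε m) (ε i₀)) := ⟨cz ε m i₀ (𝟙 _)⟩
  have hyz : ∀ i (φ : ε i ⟶ ε i₀), Zigzag (cy ε m i φ) (cz ε m i φ) := by
    intro i φ
    obtain ⟨e, he⟩ := hid i
    have := zig_c ε m e φ
    rwa [he, Category.id_comp] at this
  have key : ∀ i j (f : ε i ⟶ ε j) (φ : ε j ⟶ ε i₀), Zigzag (cz ε m i (f ≫ φ)) (cz ε m j φ) := by
    refine induct ε hε m hgen (fun i j f => ∀ φ : ε j ⟶ ε i₀,
      Zigzag (cz ε m i (f ≫ φ)) (cz ε m j φ)) ?_ ?_ ?_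
    · intro i φ
      rw [Category.id_comp]
    · intro i j k f g hf hg φ
      rw [Category.assoc]
      exact (hf _).trans (hg _)
    · intro i j e φ
      exact Zigzag.trans (hyz i (m e ≫ φ)).symm (zig_c ε m e φ)
  have key' : ∀ i (φ : ε i ⟶ ε i₀), Zigzag (cz ε m i φ) (cz ε m i₀ (𝟙 _)) := by
    intro i φ
    have := key i i₀ φ (𝟙 _)
    rwa [Category.comp_id] at this
  have hbase : ∀ a : CostructuredArrow (functor (E := E) ε m) (ε i₀), Zigzag a (cz ε m i₀ (𝟙 _)) := by
    rintro ⟨⟨(i | i)⟩, ⟨⟩, φ⟩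
    · exact (hyz i φ).trans (key' i φ)
    · exact key' i φ
  exact zigzag_isConnected fun a b => (hbase a).trans (hbase b).symm

end Final

end K302.Bipartite
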