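import Mathlib.CategoryTheory.Limits.Shapes.Equalizers
import Mathlib.CategoryTheory.Limits.Shapes.BinaryProducts
import Mathlib.CategoryTheory.Limits.Shapes.Pullback.HasPullback
import Mathlib.CategoryTheory.IsConnected
import Mathlib.CategoryTheory.FinCategory.Basic
import Mathlib.Order.Preorder.Finite
import Mathlib.Data.Finite.Prod
import Mathlib.Data.Set.Finite.Powerset
import Mathlib.Data.Fintype.Powerset

/-!
# Finite connected limits from equalizers and pullbacks; finite nonempty limits from binary products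
and equalizers

We build the limit of a finite diagram one object and one arrow at a time: `Rep F S T` says that the
functor of families of maps to the objects in `S` compatible with all arrows in `T` is representable.
-/

set_option autoImplicit false

open CategoryTheory CategoryTheory.Limits

universe v u

namespace K302.ConnLim

variable {C : Type u} [Category.{v} C] {J : Type} [SmallCategory J] (F : J ⥤ C)

/-- Compatibility of a family of maps with the arrows in `T`. -/
def Compat (S : Set J) (T : Set (Σ j k : J, (j ⟶ k))) {W : C} (w : ∀ j, j ∈ S → (W ⟶ F.obj j)) : Prop :=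
  ∀ t ∈ T, ∀ (h1 : t.1 ∈ S) (h2 : t.2.1 ∈ S), w t.1 h1 ≫ F.map t.2.2 = w t.2.1 h2

/-- Representability of the functor of `T`-compatible families indexed by `S`. -/
def Rep (S : Set J) (T : Set (Σ j k : J, (j ⟶ k))) : Prop :=
  ∃ (A : C) (π : ∀ j, j ∈ S → (A ⟶ F.obj j)), Compat F S T π ∧
    ∀ (W : C) (w : ∀ j, j ∈ S → (W ⟶ F.obj j)), Compat F S T w → ∃! u : W ⟶ A, ∀ j hj, u ≫ π j hj = w j hj

variable {F}

theorem rep_singleton (j₀ : J) : Rep F {j₀} ∅ := by
  refine ⟨F.obj j₀, fun j hj => eqToHom (by rw [Set.mem_singleton_iff.mp hj]), fun t ht => ht.elim, ?_⟩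
  intro W w _
  refine ⟨w j₀ rfl, ?_, ?_⟩
  · intro j hj
    obtain rfl := Set.mem_singleton_iff.mp hj
    simp
  · intro u hu
    have := hu j₀ rfl
    simpa using this

section Extend

variable {S : Set J} {T : Set (Σ j k : J, (j ⟶ k))}

open Classical in
/-- Extension of a family by one more object. -/
noncomputable def ext {W : C} (w : ∀ j, j ∈ S → (W ⟶ F.obj j)) {k : J} (q : W ⟶ F.obj k) (j : J)
    (hj : j ∈ insert k S) : W ⟶ F.obj j :=
  if h : j ∈ S then w j h else q ≫ eqToHom (by rw [hj.resolve_right h])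

theorem ext_mem {W : C} (w : ∀ j, j ∈ S → (W ⟶ F.obj j)) {k : J} (q : W ⟶ F.obj k) (j : J) (hj : j ∈ S)
    (hj' : j ∈ insert k S) : ext w q j hj' = w j hj := dif_pos hj

theorem ext_self {W : C} (w : ∀ j, j ∈ S → (W ⟶ F.obj j)) {k : J} (q : W ⟶ F.obj k) (hk : k ∉ S)
    (hk' : k ∈ insert k S) : ext w q k hk' = q := by
  rw [ext, dif_neg hk]; simp

theorem step_out (hT : ∀ t ∈ T, t.1 ∈ S ∧ t.2.1 ∈ S) {j k : J} (f : j ⟶ k) (hj : j ∈ S) (hk : k ∉ S)
    (h : Rep F S T) : Rep F (insert k S) (insert ⟨j, k, f⟩ T) := by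
  obtain ⟨A, π, hπ, hu⟩ := h
  refine ⟨A, ext π (π j hj ≫ F.map f), ?_, ?_⟩
  · intro t ht h1 h2
    rcases ht with rfl | ht
    · rw [ext_mem _ _ j hj, ext_self _ _ hk]
    · rw [ext_mem _ _ _ (hT t ht).1, ext_mem _ _ _ (hT t ht).2]
      exact hπ t ht _ _
  · intro W w hw
    obtain ⟨u, hu1, hu2⟩ := hu W (fun i hi => w i (Set.mem_insert_of_mem _ hi))
      (fun t ht h1 h2 => hw t (Set.mem_insert_of_mem _ ht) (Set.mem_insert_of_mem _ h1) (Set.mem_insert_of_mem _ h2))
    refine ⟨u, ?_, ?_⟩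
    · intro i hi
      rcases Set.mem_insert_iff.mp hi with rfl | hi'
      · rw [ext_self _ _ hk, ← Category.assoc, hu1]
        exact hw ⟨j, i, f⟩ (Set.mem_insert _ _) (Set.mem_insert_of_mem _ hj) _
      · rw [ext_mem _ _ _ hi', hu1]
    · intro u' hu'
      apply hu2
      intro i hi
      rw [← hu' i (Set.mem_insert_of_mem _ hi), ext_mem _ _ _ hi]

theorem step_in [HasPullbacks C] (hT : ∀ t ∈ T, t.1 ∈ S ∧ t.2.1 ∈ S) {j k : J} (f : k ⟶ j) (hj : j ∈ S)
    (hk : k ∉ S) (h : Rep F S T) : Rep F (insert k S) (insert ⟨k, j, f⟩ T) := by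
  obtain ⟨A, π, hπ, hu⟩ := h
  refine ⟨pullback (π j hj) (F.map f), ext (fun i hi => pullback.fst _ _ ≫ π i hi) (pullback.snd _ _), ?_, ?_⟩
  · intro t ht h1 h2
    rcases ht with rfl | ht
    · rw [ext_mem _ _ j hj, ext_self _ _ hk]
      exact pullback.condition.symm
    · rw [ext_mem _ _ _ (hT t ht).1, ext_mem _ _ _ (hT t ht).2, Category.assoc, hπ t ht]
  · intro W w hw
    obtain ⟨u, hu1, hu2⟩ := hu W (fun i hi => w i (Set.mem_insert_of_mem _ hi))
      (fun t ht h1 h2 => hw t (Set.mem_insert_of_mem _ ht) (Set.mem_insert_of_mem _ h1) (Set.mem_insert_of_mem _ h2))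
    refine ⟨pullback.lift u (w k (Set.mem_insert _ _)) ?_, ?_, ?_⟩
    · rw [hu1]
      exact (hw ⟨k, j, f⟩ (Set.mem_insert _ _) (Set.mem_insert _ _) (Set.mem_insert_of_mem _ hj)).symm
    · intro i hi
      rcases Set.mem_insert_iff.mp hi with rfl | hi'
      · rw [ext_self _ _ hk, pullback.lift_snd]
      · rw [ext_mem _ _ _ hi', pullback.lift_fst_assoc, hu1]
    · intro u' hu'
      apply pullback.hom_ext
      · rw [pullback.lift_fst]
        apply hu2
        intro i hi
        rw [← hu' i (Set.mem_insert_of_mem _ hi), ext_mem _ _ _ hi, Category.assoc]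
      · rw [pullback.lift_snd, ← hu' k (Set.mem_insert _ _), ext_self _ _ hk]

theorem step_prod [HasBinaryProducts C] (hT : ∀ t ∈ T, t.1 ∈ S ∧ t.2.1 ∈ S) {k : J}
    (hk : k ∉ S) (h : Rep F S T) : Rep F (insert k S) T := by
  obtain ⟨A, π, hπ, hu⟩ := h
  refine ⟨A ⨯ F.obj k, ext (fun i hi => prod.fst ≫ π i hi) prod.snd, ?_, ?_⟩
  · intro t ht h1 h2
    rw [ext_mem _ _ _ (hT t ht).1, ext_mem _ _ _ (hT t ht).2, Category.assoc, hπ t ht]
  · intro W w hw
    obtain ⟨u, hu1, hu2⟩ := hu W (fun i hi => w i (Set.mem_insert_of_mem _ hi))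
      (fun t ht h1 h2 => hw t ht (Set.mem_insert_of_mem _ h1) (Set.mem_insert_of_mem _ h2))
    refine ⟨prod.lift u (w k (Set.mem_insert _ _)), ?_, ?_⟩
    · intro i hi
      rcases Set.mem_insert_iff.mp hi with rfl | hi'
      · rw [ext_self _ _ hk, prod.lift_snd]
      · rw [ext_mem _ _ _ hi', prod.lift_fst_assoc, hu1]
    · intro u' hu'
      apply Limits.prod.hom_ext
      · rw [prod.lift_fst]
        apply hu2
        intro i hi
        rw [← hu' i (Set.mem_insert_of_mem _ hi), ext_mem _ _ _ hi, Category.assoc]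
      · rw [prod.lift_snd, ← hu' k (Set.mem_insert _ _), ext_self _ _ hk]

theorem step_eq [HasEqualizers C] (t₀ : Σ j k : J, (j ⟶ k)) (h : Rep F Set.univ T) :
    Rep F Set.univ (insert t₀ T) := by
  obtain ⟨A, π, hπ, hu⟩ := h
  obtain ⟨j, k, f⟩ := t₀
  refine ⟨equalizer (π j (Set.mem_univ _) ≫ F.map f) (π k (Set.mem_univ _)), fun i hi => equalizer.ι _ _ ≫ π i hi, ?_, ?_⟩
  · intro t ht h1 h2
    rcases ht with rfl | ht
    · have := equalizer.condition (π j (Set.mem_univ _) ≫ F.map f) (π k (Set.mem_univ _))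
      simpa using this
    · rw [Category.assoc, hπ t ht]
  · intro W w hw
    obtain ⟨u, hu1, hu2⟩ := hu W w (fun t ht => hw t (Set.mem_insert_of_mem _ ht))
    refine ⟨equalizer.lift u ?_, ?_, ?_⟩
    · rw [← Category.assoc, hu1, hu1]
      exact hw ⟨j, k, f⟩ (Set.mem_insert _ _) (Set.mem_univ _) (Set.mem_univ _)
    · intro i hi
      rw [equalizer.lift_ι_assoc, hu1]
    · intro u' hu'
      apply equalizer.hom_ext
      rw [equalizer.lift_ι]
      apply hu2
      intro i hi
      rw [← hu' i hi, Category.assoc]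

end Extend

theorem rep_univ_univ [HasEqualizers C] [Finite (Σ j k : J, (j ⟶ k))] {T : Set (Σ j k : J, (j ⟶ k))}
    (h : Rep F Set.univ T) : Rep F Set.univ Set.univ := by
  have key : ∀ T' : Set (Σ j k : J, (j ⟶ k)), Rep F Set.univ (T' ∪ T) := by
    intro T'
    induction T', Set.toFinite T' using Set.Finite.induction_on with
    | empty => rwa [Set.empty_union]
    | insert _ _ ih =>
      rw [Set.insert_union]
      exact step_eq _ ih
  have := key Set.univ
  rwa [Set.univ_union] at this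

theorem hasLimit_of_rep (h : Rep F Set.univ Set.univ) : HasLimit F := by
  obtain ⟨A, π, hπ, hu⟩ := h
  let c : Cone F :=
    { pt := A
      π := { app := fun j => π j (Set.mem_univ _)
             naturality := fun j k f => by
               have := hπ ⟨j, k, f⟩ (Set.mem_univ _) (Set.mem_univ _) (Set.mem_univ _)
               simp only [Functor.const_obj_obj, Functor.const_obj_map, Category.id_comp]
               exact this.symm } }
  have hu' : ∀ s : Cone F, ∃! u : s.pt ⟶ A, ∀ j (hj : j ∈ Set.univ), u ≫ π j hj = s.π.app j := fun s =>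
    hu s.pt (fun j _ => s.π.app j) (fun t _ _ _ => s.w t.2.2)
  exact ⟨⟨c, { lift := fun s => (hu' s).choose
               fac := fun s j => (hu' s).choose_spec.1 j (Set.mem_univ _)
               uniq := fun s m hm => (hu' s).choose_spec.2 m (fun j _ => hm j) }⟩⟩

theorem exists_rep_univ_of_isConnected [HasPullbacks C] [Finite J] [IsConnected J] :
    ∃ T, Rep F Set.univ T := by
  classical
  let j₀ : J := Classical.arbitrary J
  let P : Set (Set J) := {S | j₀ ∈ S ∧ ∃ T, (∀ t ∈ T, t.1 ∈ S ∧ t.2.1 ∈ S) ∧ Rep F S T}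
  have hP : P.Nonempty := ⟨{j₀}, rfl, ∅, fun t ht => ht.elim, rep_singleton j₀⟩
  obtain ⟨S, hS⟩ := Set.Finite.exists_maximal (Set.toFinite P) hP
  obtain ⟨⟨hj₀, T, hT, hR⟩, hmax⟩ := hS
  have hins : ∀ {k : J}, k ∉ S → (∃ T, (∀ t ∈ T, t.1 ∈ insert k S ∧ t.2.1 ∈ insert k S) ∧ Rep F (insert k S) T) → False := by
    intro k hk hR'
    exact hk (hmax ⟨Or.inr hj₀, hR'⟩ (Set.subset_insert _ _) (Or.inl rfl))
  have huniv : ∀ j, j ∈ S := by
    intro j
    refine induct_on_objects S hj₀ ?_ j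
    intro j₁ j₂ f
    constructor
    · intro h1
      by_contra h2
      refine hins h2 ⟨_, ?_, step_out hT f h1 h2 hR⟩
      rintro t (rfl | ht)
      · exact ⟨Or.inr h1, Or.inl rfl⟩
      · exact ⟨Or.inr (hT t ht).1, Or.inr (hT t ht).2⟩
    · intro h2
      by_contra h1
      refine hins h1 ⟨_, ?_, step_in hT f h2 h1 hR⟩
      rintro t (rfl | ht)
      · exact ⟨Or.inl rfl, Or.inr h2⟩
      · exact ⟨Or.inr (hT t ht).1, Or.inr (hT t ht).2⟩
  have : S = Set.univ := Set.eq_univ_of_forall huniv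
  subst this
  exact ⟨T, hR⟩

theorem exists_rep_univ_of_nonempty [HasBinaryProducts C] [Finite J] [Nonempty J] :
    ∃ T, Rep F Set.univ T := by
  classical
  let j₀ : J := Classical.arbitrary J
  let P : Set (Set J) := {S | ∃ T, (∀ t ∈ T, t.1 ∈ S ∧ t.2.1 ∈ S) ∧ Rep F S T}
  have hP : P.Nonempty := ⟨{j₀}, ∅, fun t ht => ht.elim, rep_singleton j₀⟩
  obtain ⟨S, hS⟩ := Set.Finite.exists_maximal (Set.toFinite P) hP
  obtain ⟨⟨T, hT, hR⟩, hmax⟩ := hS
  have huniv : ∀ j, j ∈ S := by
    intro k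
    by_contra hk
    exact hk (hmax ⟨T, fun t ht => ⟨Or.inr (hT t ht).1, Or.inr (hT t ht).2⟩, step_prod hT hk hR⟩
      (Set.subset_insert _ _) (Or.inl rfl))
  have : S = Set.univ := Set.eq_univ_of_forall huniv
  subst this
  exact ⟨T, hR⟩

end K302.ConnLim
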